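import Cfsg.Agent.AltCover.SignedFlip
import Mathlib.GroupTheory.SpecificGroups.Alternating
import Mathlib.GroupTheory.Commutator.Basic
import Mathlib.GroupTheory.QuotientGroup.Basic
import Mathlib.GroupTheory.OrderOfElement
import Mathlib.Tactic.Group

/-!
# The double cover of the alternating group
-/

set_option autoImplicit false
set_option linter.style.haveILetI false

namespace CfsgLib.AltCover

variable {n : ℕ}

/-- The double cover, inside units times the alternating group. -/
def cover (n : ℕ) : Subgroup ((Module.End (ZMod 3) (Vec n))ˣ × alternatingGroup (Fin n)) where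
  carrier := {q | (∀ i, q.1.val * opF i = opF i * q.1.val) ∧ q.1.val * opP = opP * q.1.val ∧
    ∀ i, q.1.val * opE i = opE ((q.2 : Equiv.Perm (Fin n)) i) * q.1.val}
  one_mem' := ⟨fun i => by simp, by simp, fun i => by simp⟩
  mul_mem' := by
    rintro ⟨u, σ⟩ ⟨v, τ⟩ ⟨hF, hP, hE⟩ ⟨hF', hP', hE'⟩
    simp only at hF hP hE hF' hP' hE'
    refine ⟨fun i => ?_, ?_, fun i => ?_⟩ <;>
      simp only [Prod.mk_mul_mk, Units.val_mul, Subgroup.coe_mul, Equiv.Perm.mul_apply]
    · rw [mul_assoc, hF', ← mul_assoc, hF, mul_assoc]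
    · rw [mul_assoc, hP', ← mul_assoc, hP, mul_assoc]
    · rw [mul_assoc, hE', ← mul_assoc, hE, mul_assoc]
  inv_mem' := by
    rintro ⟨u, σ⟩ ⟨hF, hP, hE⟩
    simp only at hF hP hE
    refine ⟨fun i => ?_, ?_, fun i => ?_⟩ <;> simp only [Prod.inv_mk]
    · exact ((show Commute u.val (opF i) from hF i).units_inv_left).eq
    · exact ((show Commute u.val opP from hP).units_inv_left).eq
    · have h1 := hE ((σ : Equiv.Perm (Fin n))⁻¹ i)
      rw [show (σ : Equiv.Perm (Fin n)) ((σ : Equiv.Perm (Fin n))⁻¹ i) = i from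
        Equiv.apply_symm_apply _ i] at h1
      calc u⁻¹.val * opE i = u⁻¹.val * (opE i * u.val) * u⁻¹.val := by simp [mul_assoc]
        _ = _ := by rw [← h1]; simp [mul_assoc]

theorem mem_cover {q : (Module.End (ZMod 3) (Vec n))ˣ × alternatingGroup (Fin n)} :
    q ∈ cover n ↔ (∀ i, q.1.val * opF i = opF i * q.1.val) ∧ q.1.val * opP = opP * q.1.val ∧
    ∀ i, q.1.val * opE i = opE ((q.2 : Equiv.Perm (Fin n)) i) * q.1.val := Iff.rfl

theorem neg_one_mem : ((-1 : (Module.End (ZMod 3) (Vec n))ˣ), (1 : alternatingGroup (Fin n))) ∈ cover n :=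
  mem_cover.2 ⟨fun i => by simp [end_neg_mul, end_mul_neg], by simp [end_neg_mul, end_mul_neg],
    fun i => by simp [end_neg_mul, end_mul_neg]⟩

theorem end_neg_one_ne_one : (-1 : (Module.End (ZMod 3) (Vec n))ˣ) ≠ 1 := by
  intro h
  have h1 := congrFun (LinearMap.congr_fun (congrArg Units.val h) (fun _ => 1)) fun _ => false
  have h2 : (-1 : ZMod 3) ≠ 1 := by decide
  exact h2 h1

/-- Every even permutation lifts to the cover. -/
theorem surjective_snd : Function.Surjective ((MonoidHom.snd _ _).comp (cover n).subtype) := by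
  intro σ
  obtain ⟨u, hF, hP, hE⟩ := exists_lift (σ : Equiv.Perm (Fin n))
  have hs : Equiv.Perm.sign (σ : Equiv.Perm (Fin n)) = 1 := Equiv.Perm.mem_alternatingGroup.1 σ.2
  rw [hs] at hP hE
  simp only [Units.val_one, one_smul] at hP hE
  exact ⟨⟨(u, σ), hF, hP, hE⟩, rfl⟩

theorem exists_double_cover (n : ℕ) (hn : 4 ≤ n) : ∃ (Γ : Type) (_ : Group Γ) (_ : Finite Γ) (z : Γ)
    (hz : z ∈ Subgroup.center Γ), orderOf z = 2 ∧ z ∈ commutator Γ ∧
      ∃ _ : (Subgroup.zpowers z).Normal, Nonempty (Γ ⧸ Subgroup.zpowers z ≃* alternatingGroup (Fin n)) := by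
  classical
  haveI : Finite (Module.End (ZMod 3) (Vec n)) := Finite.of_injective (fun f => (f : Vec n → Vec n))
    DFunLike.coe_injective
  haveI : Finite (Module.End (ZMod 3) (Vec n))ˣ := Finite.of_injective _ Units.val_injective
  let π := (MonoidHom.snd (Module.End (ZMod 3) (Vec n))ˣ (alternatingGroup (Fin n))).comp (cover n).subtype
  let z : cover n := ⟨(-1, 1), neg_one_mem⟩
  have hzc : z ∈ Subgroup.center (cover n) := Subgroup.mem_center_iff.2 fun g =>
    Subtype.ext (Prod.ext (Units.ext (by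
      change g.1.1.val * -1 = -1 * g.1.1.val
      rw [end_mul_neg, end_neg_mul, mul_one, one_mul])) (by
      change g.1.2 * 1 = 1 * g.1.2
      rw [mul_one, one_mul]))
  have hz2 : orderOf z = 2 := by
    refine orderOf_eq_prime (Subtype.ext (Prod.ext ?_ ?_)) fun h =>
      end_neg_one_ne_one (congrArg (fun q : cover n => q.1.1) h)
    · change (-1 : (Module.End (ZMod 3) (Vec n))ˣ) ^ 2 = 1
      rw [pow_two]
      exact Units.ext (by change (-1 : Module.End (ZMod 3) (Vec n)) * -1 = 1; rw [end_mul_neg, mul_one, neg_neg])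
    · change (1 : alternatingGroup (Fin n)) ^ 2 = 1
      rw [one_pow]
  have hker : π.ker = Subgroup.zpowers z := by
    refine le_antisymm ?_ (Subgroup.zpowers_le.2 rfl)
    rintro ⟨⟨u, σ⟩, hq⟩ hσ
    have hσ1 : σ = 1 := hσ
    subst hσ1
    rcases eq_one_or_neg_one u (fun i => by simpa using hq.2.2 i) hq.1 hq.2.1 with rfl | rfl
    · exact Subgroup.one_mem _
    · exact Subgroup.mem_zpowers z
  haveI hN : (Subgroup.zpowers z).Normal := hker ▸ inferInstance
  refine ⟨cover n, inferInstance, inferInstance, z, hzc, hz2, ?_, hN,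
    ⟨(QuotientGroup.quotientMulEquivOfEq hker.symm).trans
      (QuotientGroup.quotientKerEquivOfSurjective π surjective_snd)⟩⟩
  -- two anticommuting lifts
  let a : Fin n := ⟨0, by omega⟩
  let b : Fin n := ⟨1, by omega⟩
  let c : Fin n := ⟨2, by omega⟩
  let d : Fin n := ⟨3, by omega⟩
  have hab : a ≠ b := by simp [a, b]
  have hcd : c ≠ d := by simp [c, d]
  have hac : a ≠ c := by simp [a, c]
  have hbd : b ≠ d := by simp [b, d]
  have hmem : ∀ {p q r s : Fin n}, p ≠ q → r ≠ s → Equiv.swap p q * Equiv.swap r s ∈ alternatingGroup (Fin n) :=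
    fun h h' => Equiv.Perm.mem_alternatingGroup.2 (by
      rw [Equiv.Perm.sign_mul, Equiv.Perm.sign_swap h, Equiv.Perm.sign_swap h']; rfl)
  let x : cover n := ⟨(swapUnit hab * swapUnit hcd, ⟨_, hmem hab hcd⟩),
    fun i => by
      change (opE a - opE b) * (opE c - opE d) * opF i = opF i * ((opE a - opE b) * (opE c - opE d))
      rw [mul_assoc, diff_opF, ← mul_assoc, diff_opF, mul_assoc],
    by
      change (opE a - opE b) * (opE c - opE d) * opP = opP * ((opE a - opE b) * (opE c - opE d))
      rw [mul_assoc, diff_opP, end_mul_neg, ← mul_assoc, diff_opP, end_neg_mul, neg_neg, mul_assoc],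
    fun i => by
      change (opE a - opE b) * (opE c - opE d) * opE i =
        opE (Equiv.swap a b (Equiv.swap c d i)) * ((opE a - opE b) * (opE c - opE d))
      rw [mul_assoc, diff_mul_opE hcd, end_mul_neg, ← mul_assoc, diff_mul_opE hab, end_neg_mul, neg_neg,
        mul_assoc]⟩
  obtain ⟨y, hy⟩ := surjective_snd (n := n) ⟨_, hmem hac hbd⟩
  have hyE : ∀ i, y.1.1.val * opE i = opE (Equiv.swap a c (Equiv.swap b d i)) * y.1.1.val := fun i => by
    have h := y.2.2.2 i
    rwa [show y.1.2 = ⟨_, hmem hac hbd⟩ from hy] at h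
  have h1 : Equiv.swap a c (Equiv.swap b d a) = c := by
    rw [Equiv.swap_apply_of_ne_of_ne hab (by simp [a, d]), Equiv.swap_apply_left]
  have h2 : Equiv.swap a c (Equiv.swap b d b) = d := by
    rw [Equiv.swap_apply_left, Equiv.swap_apply_of_ne_of_ne (by simp [a, d]) hcd.symm]
  have h3 : Equiv.swap a c (Equiv.swap b d c) = a := by
    rw [Equiv.swap_apply_of_ne_of_ne (by simp [b, c]) hcd, Equiv.swap_apply_right]
  have h4 : Equiv.swap a c (Equiv.swap b d d) = b := by
    rw [Equiv.swap_apply_right, Equiv.swap_apply_of_ne_of_ne hab.symm (by simp [b, c])]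
  have hanti : (opE c - opE d) * (opE a - opE b) = -((opE a - opE b) * (opE c - opE d)) := by
    rw [sub_mul, mul_sub, mul_sub, opE_anti (by simp [a, c] : c ≠ a), opE_anti (by simp [b, c] : c ≠ b),
      opE_anti (by simp [a, d] : d ≠ a), opE_anti (by simp [b, d] : d ≠ b), sub_mul, mul_sub, mul_sub]
    abel
  have hyx : y * x = z * (x * y) := by
    refine Subtype.ext (Prod.ext (Units.ext ?_) (Subtype.ext ?_))
    · change y.1.1.val * ((opE a - opE b) * (opE c - opE d)) =
        -1 * ((opE a - opE b) * (opE c - opE d) * y.1.1.val)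
      have e1 : y.1.1.val * (opE a - opE b) = (opE c - opE d) * y.1.1.val := by
        rw [mul_sub, hyE, hyE, h1, h2, sub_mul]
      have e2 : y.1.1.val * (opE c - opE d) = (opE a - opE b) * y.1.1.val := by
        rw [mul_sub, hyE, hyE, h3, h4, sub_mul]
      rw [← mul_assoc, e1, mul_assoc, e2, ← mul_assoc, hanti, end_neg_mul, end_neg_mul, one_mul]
    · change ((y.1.2 : alternatingGroup (Fin n)) : Equiv.Perm (Fin n)) * (Equiv.swap a b * Equiv.swap c d) =
        1 * (Equiv.swap a b * Equiv.swap c d * ((y.1.2 : alternatingGroup (Fin n)) : Equiv.Perm (Fin n)))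
      rw [show y.1.2 = ⟨_, hmem hac hbd⟩ from hy, one_mul]
      change (Equiv.swap a c * Equiv.swap b d) * _ = _ * (Equiv.swap a c * Equiv.swap b d)
      generalize hg : Equiv.swap a c * Equiv.swap b d = g
      have g1 : g a = c := by rw [← hg]; exact h1
      have g2 : g b = d := by rw [← hg]; exact h2
      have g3 : g c = a := by rw [← hg]; exact h3
      have g4 : g d = b := by rw [← hg]; exact h4
      rw [← mul_assoc, Equiv.mul_swap_eq_swap_mul g a b, g1, g2, mul_assoc,
        Equiv.mul_swap_eq_swap_mul g c d, g3, g4, ← mul_assoc,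
        Equiv.mul_swap_eq_swap_mul (Equiv.swap c d) a b,
        Equiv.swap_apply_of_ne_of_ne hac (by simp [a, d]),
        Equiv.swap_apply_of_ne_of_ne (by simp [b, c]) hbd]
  rw [commutator_def]
  have hz' : z = y * x * y⁻¹ * x⁻¹ := by rw [hyx]; group
  rw [hz', ← commutatorElement_def]
  exact Subgroup.commutator_mem_commutator (Subgroup.mem_top _) (Subgroup.mem_top _)

end CfsgLib.AltCover
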