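import Mathlib.LinearAlgebra.Pi
import Mathlib.Algebra.Module.LinearMap.End
import Mathlib.Data.ZMod.Basic
import Mathlib.Algebra.Field.ZMod
import Mathlib.Algebra.BigOperators.Group.Finset.Piecewise
import Mathlib.Order.Interval.Finset.Fin
import Mathlib.GroupTheory.Perm.Sign
import Mathlib.Tactic.Ring
import Mathlib.Tactic.Abel
import Mathlib.Tactic.LinearCombination

/-!
# A matrix model of the even spin cover of a permutation group

Anticommuting involutions `opE i` acting on functions on sign vectors, together with operators commuting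
with all of them; lifts of permutations permuting the `opE i` up to sign.
-/

set_option autoImplicit false
set_option linter.style.haveILetI false

namespace CfsgLib.AltCover

/-- The space of functions on sign vectors. -/
abbrev Vec (n : ℕ) := (Fin n → Bool) → ZMod 3

/-- The sign of a Boolean. -/
def sgn (b : Bool) : ZMod 3 := if b then -1 else 1

theorem sgn_mul_self (b : Bool) : sgn b * sgn b = 1 := by cases b <;> simp [sgn]

theorem sgn_not (b : Bool) : sgn (!b) = -sgn b := by cases b <;> simp [sgn]

variable {n : ℕ}

/-- Flip one coordinate. -/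
def flip (i : Fin n) (S : Fin n → Bool) : Fin n → Bool := Function.update S i (!S i)

theorem flip_flip (i : Fin n) (S : Fin n → Bool) : flip i (flip i S) = S := by
  funext j
  by_cases h : j = i <;> simp [flip, h]

theorem flip_comm (i j : Fin n) (S : Fin n → Bool) : flip i (flip j S) = flip j (flip i S) := by
  by_cases h : i = j
  · rw [h]
  funext k
  by_cases hi : k = i <;> by_cases hj : k = j <;> simp_all [flip, Function.update_of_ne, Ne.symm h]

/-- The product of the signs over a set of coordinates. -/
def prodSgn (s : Finset (Fin n)) (S : Fin n → Bool) : ZMod 3 := ∏ j ∈ s, sgn (S j)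

theorem prodSgn_flip (s : Finset (Fin n)) (j : Fin n) (S : Fin n → Bool) :
    prodSgn s (flip j S) = if j ∈ s then -prodSgn s S else prodSgn s S := by
  unfold prodSgn
  split_ifs with h
  · rw [← Finset.mul_prod_erase s _ h, ← Finset.mul_prod_erase s _ h,
      Finset.prod_congr rfl fun k hk => by
        rw [show flip j S k = S k from Function.update_of_ne (Finset.ne_of_mem_erase hk) _ _]]
    rw [show flip j S j = !S j from Function.update_self _ _ _, sgn_not, neg_mul]
  · refine Finset.prod_congr rfl fun k hk => ?_
    rw [show flip j S k = S k from Function.update_of_ne (fun e : k = j => h (e ▸ hk)) _ _]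

theorem prodSgn_sq (s : Finset (Fin n)) (S : Fin n → Bool) : prodSgn s S * prodSgn s S = 1 := by
  rw [prodSgn, ← Finset.prod_mul_distrib]
  exact Finset.prod_eq_one fun j _ => sgn_mul_self _

/-- A weighted substitution operator. -/
def op (w : (Fin n → Bool) → ZMod 3) (f : (Fin n → Bool) → Fin n → Bool) : Module.End (ZMod 3) (Vec n) where
  toFun v S := w S * v (f S)
  map_add' u v := by funext S; simp [mul_add]
  map_smul' c v := by funext S; simp; ring

theorem op_mul (w w' : (Fin n → Bool) → ZMod 3) (f f' : (Fin n → Bool) → Fin n → Bool) :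
    op w f * op w' f' = op (fun S => w S * w' (f S)) (fun S => f' (f S)) := by
  refine LinearMap.ext fun v => funext fun S => ?_
  simp [op, mul_assoc]

theorem op_one : op (n := n) (fun _ => 1) id = 1 := LinearMap.ext fun v => funext fun S => by simp [op]

theorem op_neg (w : (Fin n → Bool) → ZMod 3) (f : (Fin n → Bool) → Fin n → Bool) :
    op (fun S => -w S) f = -op w f := LinearMap.ext fun v => funext fun S => by simp [op]

/-- The anticommuting involutions. -/
def opE (i : Fin n) : Module.End (ZMod 3) (Vec n) := op (prodSgn (Finset.Iio i)) (flip i)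

/-- The operators commuting with all `opE`. -/
def opF (i : Fin n) : Module.End (ZMod 3) (Vec n) := op (prodSgn (Finset.Ioi i)) (flip i)

/-- The parity operator. -/
def opP : Module.End (ZMod 3) (Vec n) := op (prodSgn Finset.univ) id

theorem opE_sq (i : Fin n) : opE i * opE i = 1 := by
  rw [opE, op_mul, ← op_one]
  refine congrArg₂ op (funext fun S => ?_) (funext (flip_flip i))
  rw [prodSgn_flip, if_neg (by simp), prodSgn_sq]

theorem opE_anti {i j : Fin n} (h : i ≠ j) : opE i * opE j = -(opE j * opE i) := by
  rw [opE, opE, op_mul, op_mul, ← op_neg]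
  refine congrArg₂ op (funext fun S => ?_) (funext fun S => flip_comm j i S)
  rw [prodSgn_flip, prodSgn_flip]
  simp only [Finset.mem_Iio]
  rcases lt_or_gt_of_ne h with h' | h'
  · rw [if_pos h', if_neg h'.not_gt]; ring
  · rw [if_neg h'.not_gt, if_pos h']; ring

theorem opE_opF (i j : Fin n) : opE i * opF j = opF j * opE i := by
  rw [opE, opF, op_mul, op_mul]
  refine congrArg₂ op (funext fun S => ?_) (funext fun S => flip_comm j i S)
  rw [prodSgn_flip, prodSgn_flip]
  simp only [Finset.mem_Iio, Finset.mem_Ioi]
  by_cases h' : j < i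
  · rw [if_pos h', if_pos h']; ring
  · rw [if_neg h', if_neg h']; ring

theorem opE_opP (i : Fin n) : opE i * opP = -(opP * opE i) := by
  rw [opE, opP, op_mul, op_mul, ← op_neg]
  refine congrArg₂ op (funext fun S => ?_) rfl
  rw [prodSgn_flip, if_pos (Finset.mem_univ _), id]; ring

theorem opE_opF_opP (i : Fin n) : opE i * opF i * opP = op (fun S => sgn (S i)) id := by
  rw [opE, opF, opP, op_mul, op_mul]
  refine congrArg₂ op (funext fun S => ?_) (funext fun S => flip_flip i S)
  simp only [flip_flip]
  rw [prodSgn_flip, if_neg (by simp)]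
  have h : prodSgn Finset.univ S = prodSgn (Finset.Iio i) S * sgn (S i) * prodSgn (Finset.Ioi i) S := by
    have hu : (Finset.univ : Finset (Fin n)) = insert i (Finset.Iio i ∪ Finset.Ioi i) := by
      ext x; simp [le_antisymm_iff]; omega
    rw [prodSgn, prodSgn, prodSgn, hu, Finset.prod_insert (by simp),
      Finset.prod_union (Finset.disjoint_left.2 fun x hx hx' => by
        simp only [Finset.mem_Iio, Finset.mem_Ioi] at hx hx'; omega)]
    ring
  rw [h]
  linear_combination sgn (S i) * (prodSgn_sq (Finset.Iio i) S) * (prodSgn (Finset.Ioi i) S * prodSgn (Finset.Ioi i) S) +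
    sgn (S i) * (prodSgn_sq (Finset.Ioi i) S)

/-- An operator commuting with everything is a sign. -/
theorem eq_one_or_neg_one (u : (Module.End (ZMod 3) (Vec n))ˣ)
    (hE : ∀ i, u.val * opE i = opE i * u.val)
    (hF : ∀ i, u.val * opF i = opF i * u.val)
    (hP : u.val * opP = opP * u.val) : u = 1 ∨ u = -1 := by
  classical
  set x : Module.End (ZMod 3) (Vec n) := u.val with hx
  have hD : ∀ i, x * op (fun S => sgn (S i)) id = op (fun S => sgn (S i)) id * x := fun i => by
    rw [← opE_opF_opP, ← mul_assoc, ← mul_assoc, hE, mul_assoc (opE i), hF, ← mul_assoc, mul_assoc, hP,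
      ← mul_assoc]
  let δ : (Fin n → Bool) → Vec n := fun S => Pi.single S 1
  have hoff : ∀ S T, T ≠ S → x (δ S) T = 0 := by
    intro S T hTS
    obtain ⟨i, hi⟩ := Function.ne_iff.1 hTS
    have h1 : op (fun S => sgn (S i)) id (δ S) = sgn (S i) • δ S := by
      funext R
      by_cases h : R = S <;> simp [op, δ, h, Pi.single_eq_of_ne]
    have h2 := congrFun (LinearMap.congr_fun (hD i) (δ S)) T
    rw [Module.End.mul_apply, Module.End.mul_apply, h1, map_smul, Pi.smul_apply, smul_eq_mul] at h2
    change sgn (S i) * x (δ S) T = sgn (T i) * x (δ S) T at h2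
    cases hS : S i <;> cases hT : T i <;> simp only [hS, hT, ne_eq, not_true] at hi <;>
      simp only [hS, hT, sgn, if_true, if_false, Bool.false_eq_true] at h2 <;>
      generalize x (δ S) T = a at h2 <;> revert h2 <;> revert a <;> decide
  set c : (Fin n → Bool) → ZMod 3 := fun S => x (δ S) S with hc
  have hdiag : ∀ S, x (δ S) = c S • δ S := fun S => funext fun T => by
    by_cases h : T = S
    · subst h; simp [c, δ]
    · simp [hoff S T h, δ, Pi.single_eq_of_ne h]
  have hflip : ∀ i S, c (flip i S) = c S := by
    intro i S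
    have hE' : opE i (δ S) = prodSgn (Finset.Iio i) (flip i S) • δ (flip i S) := by
      funext R
      change prodSgn (Finset.Iio i) R * δ S (flip i R) = _
      by_cases h : R = flip i S
      · subst h; simp [δ, flip_flip]
      · have h' : flip i R ≠ S := fun e => h (by rw [← e, flip_flip])
        simp [δ, Pi.single_eq_of_ne h', Pi.single_eq_of_ne h]
    have h2 := congrFun (LinearMap.congr_fun (hE i) (δ S)) (flip i S)
    rw [Module.End.mul_apply, Module.End.mul_apply, hE', hdiag, map_smul, map_smul, hdiag, hE'] at h2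
    simp only [Pi.smul_apply, smul_eq_mul, δ, Pi.single_eq_same, mul_one] at h2
    exact mul_left_cancel₀ (fun h0 => one_ne_zero (α := ZMod 3) (by
      rw [← prodSgn_sq (Finset.Iio i) (flip i S), h0, zero_mul])) (h2.trans (mul_comm _ _))
  set S₀ : Fin n → Bool := fun _ => false with hS₀
  have hconst : ∀ (s : Finset (Fin n)) (S : Fin n → Bool), (∀ j, S j = true → j ∈ s) → c S = c S₀ := by
    intro s
    induction s using Finset.induction with
    | empty =>
      intro S h
      exact congrArg c (funext fun j => Bool.eq_false_iff.2 fun e => Finset.notMem_empty j (h j e))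
    | @insert a s _ ih =>
      intro S h
      by_cases hSa : S a = true
      · rw [← hflip a S]
        refine ih _ fun j hj => ?_
        have hja : j ≠ a := fun e => by subst e; simp [flip, hSa] at hj
        rw [flip, Function.update_of_ne hja] at hj
        exact (Finset.mem_insert.1 (h j hj)).resolve_left hja
      · refine ih S fun j hj => (Finset.mem_insert.1 (h j hj)).resolve_left fun e => hSa (e ▸ hj)
  have hxc : x = c S₀ • (1 : Module.End (ZMod 3) (Vec n)) := by
    refine LinearMap.pi_ext fun S a => ?_
    rw [show (Pi.single S a : Vec n) = a • δ S by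
      rw [← Pi.single_smul', smul_eq_mul, mul_one], map_smul, map_smul, hdiag,
      hconst Finset.univ S fun j _ => Finset.mem_univ j]
    rfl
  have hc0 : c S₀ ≠ 0 := fun h => by
    rw [h, zero_smul] at hxc
    have h1 : (1 : Module.End (ZMod 3) (Vec n)) = 0 := by rw [← u.mul_inv, ← hx, hxc, zero_mul]
    exact one_ne_zero (α := ZMod 3) (by simpa [δ] using congrFun (LinearMap.congr_fun h1 (δ S₀)) S₀)
  have h3 : ∀ a : ZMod 3, a ≠ 0 → a = 1 ∨ a = -1 := by decide
  rcases h3 _ hc0 with h | h
  · exact .inl (Units.ext (by rw [← hx, hxc, h, one_smul]; rfl))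
  · exact .inr (Units.ext (LinearMap.ext fun v => funext fun S => by rw [← hx, hxc, h]; exact neg_one_mul (v S)))

theorem end_neg_mul (a b : Module.End (ZMod 3) (Vec n)) : -a * b = -(a * b) := LinearMap.ext fun _ => rfl

theorem end_mul_neg (a b : Module.End (ZMod 3) (Vec n)) : a * -b = -(a * b) :=
  LinearMap.ext fun v => map_neg a (b v)

theorem diff_sq {a b : Fin n} (h : a ≠ b) : (opE a - opE b) * (opE a - opE b) = -1 := by
  have h2 : (2 : Module.End (ZMod 3) (Vec n)) = -1 := by
    have h3 : ∀ c : ZMod 3, c + c = -c := by decide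
    refine LinearMap.ext fun v => funext fun S => ?_
    rw [show (2 : Module.End (ZMod 3) (Vec n)) = 1 + 1 from (one_add_one_eq_two).symm]
    simp only [LinearMap.add_apply, Module.End.one_apply, Pi.add_apply, LinearMap.neg_apply, Pi.neg_apply]
    exact h3 _
  rw [sub_mul, mul_sub, mul_sub, opE_sq, opE_sq, opE_anti h, ← h2, ← one_add_one_eq_two]
  abel

/-- The lift of a transposition. -/
def swapUnit {a b : Fin n} (h : a ≠ b) : (Module.End (ZMod 3) (Vec n))ˣ where
  val := opE a - opE b
  inv := -(opE a - opE b)
  val_inv := by rw [end_mul_neg, diff_sq h, neg_neg]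
  inv_val := by rw [end_neg_mul, diff_sq h, neg_neg]

theorem diff_mul_opE {a b : Fin n} (h : a ≠ b) (i : Fin n) :
    (opE a - opE b) * opE i = -(opE (Equiv.swap a b i) * (opE a - opE b)) := by
  rcases eq_or_ne i a with rfl | hia
  · rw [Equiv.swap_apply_left, sub_mul, mul_sub, opE_sq, opE_sq]; abel
  rcases eq_or_ne i b with rfl | hib
  · rw [Equiv.swap_apply_right, sub_mul, mul_sub, opE_sq, opE_sq]; abel
  rw [Equiv.swap_apply_of_ne_of_ne hia hib, sub_mul, mul_sub, opE_anti hia.symm, opE_anti hib.symm]
  abel

theorem diff_opF (a b i : Fin n) : (opE a - opE b) * opF i = opF i * (opE a - opE b) := by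
  rw [sub_mul, mul_sub, opE_opF, opE_opF]

theorem diff_opP (a b : Fin n) : (opE a - opE b) * opP = -(opP * (opE a - opE b)) := by
  rw [sub_mul, mul_sub, opE_opP, opE_opP]; abel

/-- Every permutation lifts. -/
theorem exists_lift (π : Equiv.Perm (Fin n)) : ∃ u : (Module.End (ZMod 3) (Vec n))ˣ,
    (∀ i, u.val * opF i = opF i * u.val) ∧
    u.val * opP = ((Equiv.Perm.sign π : ℤ)) • (opP * u.val) ∧
    ∀ i, u.val * opE i = ((Equiv.Perm.sign π : ℤ)) • (opE (π i) * u.val) := by
  induction π using Equiv.Perm.swap_induction_on with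
  | one => exact ⟨1, fun i => by simp, by simp, fun i => by simp⟩
  | swap_mul π a b hab ih =>
    obtain ⟨u, hF, hP, hE⟩ := ih
    refine ⟨swapUnit hab * u, fun i => ?_, ?_, fun i => ?_⟩ <;>
      simp only [Units.val_mul, Equiv.Perm.sign_mul, Equiv.Perm.sign_swap hab, Units.val_neg, Units.val_one,
        neg_mul, one_mul, neg_smul] <;> change (opE a - opE b) * u.val * _ = _
    · rw [mul_assoc, hF, ← mul_assoc, diff_opF, mul_assoc]; rfl
    · rw [mul_assoc, hP, mul_smul_comm, ← mul_assoc, diff_opP, end_neg_mul, smul_neg, mul_assoc]; rfl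
    · rw [mul_assoc, hE, mul_smul_comm, ← mul_assoc, diff_mul_opE hab, end_neg_mul, smul_neg, mul_assoc]; rfl

end CfsgLib.AltCover
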