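/-
The squares of the lifts of involutions to the double cover of the alternating group.
-/
import Cfsg.Agent.AltCover.DoubleCover

set_option autoImplicit false
set_option linter.style.haveILetI false

namespace CfsgLib.AltCover

variable {n : ℕ}

/-- The sign of a parity. -/
def parSign (k : ℕ) : ℤ := (-1) ^ k

/-- The product of transpositions along a list of pairs. -/
def prodSwap : List (Fin n × Fin n) → Equiv.Perm (Fin n)
  | [] => 1
  | e :: l => Equiv.swap e.1 e.2 * prodSwap l

/-- A pair has distinct entries, and avoids all entries of a list. -/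
def Fresh (e : Fin n × Fin n) (l : List (Fin n × Fin n)) : Prop :=
  e.1 ≠ e.2 ∧ ∀ f ∈ l, e.1 ≠ f.1 ∧ e.1 ≠ f.2 ∧ e.2 ≠ f.1 ∧ e.2 ≠ f.2

/-- Pairwise disjoint pairs. -/
def Disjt : List (Fin n × Fin n) → Prop
  | [] => True
  | e :: l => Fresh e l ∧ Disjt l

theorem diff_anti {a b c d : Fin n} (hac : a ≠ c) (had : a ≠ d) (hbc : b ≠ c) (hbd : b ≠ d) :
    (opE c - opE d) * (opE a - opE b) = -((opE a - opE b) * (opE c - opE d)) := by
  rw [sub_mul, mul_sub, mul_sub, opE_anti hac.symm, opE_anti hbc.symm, opE_anti had.symm, opE_anti hbd.symm,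
    sub_mul, mul_sub, mul_sub]
  abel

/-- A product of lifts of disjoint transpositions. -/
theorem exists_prod_lift : ∀ (l : List (Fin n × Fin n)), Disjt l → ∃ u : (Module.End (ZMod 3) (Vec n))ˣ,
    (∀ i, u.val * opF i = opF i * u.val) ∧ u.val * opP = parSign l.length • (opP * u.val) ∧
    (∀ i, u.val * opE i = parSign l.length • (opE (prodSwap l i) * u.val)) ∧
    (∀ e, Fresh e l → u.val * (opE e.1 - opE e.2) = parSign l.length • ((opE e.1 - opE e.2) * u.val)) ∧
    u.val * u.val = (-1 : ℤ) ^ (l.length * (l.length + 1) / 2) • 1 := by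
  intro l
  induction l with
  | nil => intro _; exact ⟨1, fun i => by simp, by simp [parSign], fun i => by simp [parSign, prodSwap],
      fun e _ => by simp [parSign], by simp⟩
  | cons e l ih =>
    intro hl
    obtain ⟨⟨he, hdis⟩, hl'⟩ := hl
    obtain ⟨u, hF, hP, hE, hD, hsq⟩ := ih hl'
    have hstep : ∀ x y : Module.End (ZMod 3) (Vec n),
        parSign (e :: l).length • (x * y) = -(parSign l.length • (x * y)) := fun x y => by
      rw [List.length_cons, parSign, parSign, pow_succ, mul_neg_one, neg_smul]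
    refine ⟨swapUnit he * u, fun i => ?_, ?_, fun i => ?_, fun f hf => ?_, ?_⟩ <;>
      simp only [Units.val_mul] <;> change (opE e.1 - opE e.2) * u.val * _ = _
    · rw [mul_assoc, hF, ← mul_assoc, diff_opF, mul_assoc]; rfl
    · rw [mul_assoc, hP, mul_smul_comm, ← mul_assoc, diff_opP, end_neg_mul, smul_neg, hstep, mul_assoc]; rfl
    · rw [mul_assoc, hE, mul_smul_comm, ← mul_assoc, diff_mul_opE he, end_neg_mul, smul_neg, hstep, mul_assoc]; rfl
    · obtain ⟨hf1, hf2⟩ := hf
      obtain ⟨a1, a2, a3, a4⟩ := hf2 e List.mem_cons_self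
      rw [mul_assoc, hD f ⟨hf1, fun g hg => hf2 g (List.mem_cons_of_mem _ hg)⟩, mul_smul_comm, ← mul_assoc,
        diff_anti a1 a2 a3 a4, end_neg_mul, smul_neg, hstep, mul_assoc]
      rfl
    · change (opE e.1 - opE e.2) * u.val * ((opE e.1 - opE e.2) * u.val) = _
      rw [mul_assoc, ← mul_assoc u.val, hD e ⟨he, hdis⟩, smul_mul_assoc, mul_smul_comm, ← mul_assoc,
        ← mul_assoc, diff_sq he, mul_assoc, hsq, end_neg_mul, one_mul, smul_neg, smul_smul, parSign, ← pow_add,
        ← neg_smul]
      congr 1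
      rw [show (e :: l).length * ((e :: l).length + 1) / 2 = l.length + l.length * (l.length + 1) / 2 + 1 by
        rw [List.length_cons]
        have h2 : (l.length + 1) * (l.length + 1 + 1) = l.length * (l.length + 1) + 2 * (l.length + 1) := by ring
        rw [h2, Nat.add_mul_div_left _ _ (by norm_num)]
        ring, pow_succ, mul_neg_one]

/-- The projection of the cover. -/
def coverProj (n : ℕ) : cover n →* Equiv.Perm (Fin n) :=
  (alternatingGroup (Fin n)).subtype.comp ((MonoidHom.snd _ _).comp (cover n).subtype)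

theorem coverProj_surj {σ : Equiv.Perm (Fin n)} (hσ : Equiv.Perm.sign σ = 1) : ∃ c, coverProj n c = σ := by
  obtain ⟨c, hc⟩ := surjective_snd (n := n) ⟨σ, Equiv.Perm.mem_alternatingGroup.2 hσ⟩
  exact ⟨c, congrArg Subtype.val hc⟩

/-- The central element of order two. -/
def coverNeg (n : ℕ) : cover n := ⟨(-1, 1), neg_one_mem⟩

theorem coverNeg_central (g : cover n) : g * coverNeg n = coverNeg n * g :=
  Subtype.ext (Prod.ext (Units.ext (by
    change g.1.1.val * -1 = -1 * g.1.1.val
    rw [end_mul_neg, end_neg_mul, mul_one, one_mul])) (by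
    change g.1.2 * 1 = 1 * g.1.2
    rw [mul_one, one_mul]))

theorem coverNeg_ne : coverNeg n ≠ 1 := fun h =>
  end_neg_one_ne_one (congrArg (fun q : cover n => q.1.1) h)

theorem coverNeg_sq : coverNeg n * coverNeg n = 1 := by
  refine Subtype.ext (Prod.ext (Units.ext ?_) (one_mul _))
  change (-1 : Module.End (ZMod 3) (Vec n)) * -1 = 1
  rw [end_mul_neg, mul_one, neg_neg]

theorem coverProj_neg : coverProj n (coverNeg n) = 1 := rfl

theorem coverProj_ker {c : cover n} (h : coverProj n c = 1) : c = 1 ∨ c = coverNeg n := by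
  obtain ⟨⟨u, σ⟩, hq⟩ := c
  have hσ : σ = 1 := Subtype.ext h
  subst hσ
  rcases eq_one_or_neg_one u (fun i => by simpa using hq.2.2 i) hq.1 hq.2.1 with rfl | rfl
  · exact Or.inl rfl
  · exact Or.inr rfl

theorem cover_finite : Finite (cover n) := by
  haveI : Finite (Module.End (ZMod 3) (Vec n)) := Finite.of_injective (fun f => (f : Vec n → Vec n))
    DFunLike.coe_injective
  haveI : Finite (Module.End (ZMod 3) (Vec n))ˣ := Finite.of_injective _ Units.val_injective
  infer_instance

/-- Every lift of such an involution has order four. -/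
theorem lift_sq {l : List (Fin n × Fin n)} (hl : Disjt l) (heven : Even l.length)
    (hodd : Odd (l.length * (l.length + 1) / 2)) {c : cover n} (hc : coverProj n c = prodSwap l) :
    c * c = coverNeg n := by
  obtain ⟨u, hF, hP, hE, -, hsq⟩ := exists_prod_lift l hl
  rw [show parSign l.length = 1 from heven.neg_one_pow] at hP hE
  simp only [one_smul] at hP hE
  rw [hodd.neg_one_pow, neg_smul, one_smul] at hsq
  have hsgn : Equiv.Perm.sign (prodSwap l) = 1 := hc ▸ Equiv.Perm.mem_alternatingGroup.1 c.1.2.2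
  let d : cover n := ⟨(u, ⟨prodSwap l, Equiv.Perm.mem_alternatingGroup.2 hsgn⟩), hF, hP, hE⟩
  have hd : d * d = coverNeg n := by
    have hπ : ((d * d).1.2 : Equiv.Perm (Fin n)) = 1 := by
      show prodSwap l * prodSwap l = 1
      refine Equiv.ext fun i => ?_
      have hu : u.val * u.val * opE i = opE (prodSwap l (prodSwap l i)) * (u.val * u.val) := by
        rw [mul_assoc, hE, ← mul_assoc, hE, mul_assoc]
      rw [hsq, end_neg_mul, end_mul_neg, one_mul, mul_one, neg_inj] at hu
      by_contra hne
      exact opE_inj hne hu.symm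
    exact Subtype.ext (Prod.ext (Units.ext hsq) (Subtype.ext hπ))
  rcases coverProj_ker (c := d⁻¹ * c) (by rw [map_mul, map_inv, hc]; exact inv_mul_cancel _) with h | h
  · rwa [show c = d from (inv_mul_eq_one.1 h).symm]
  · rw [show c = d * coverNeg n from eq_mul_of_inv_mul_eq h, ← mul_assoc, mul_assoc d (coverNeg n),
      ← coverNeg_central, ← mul_assoc, hd, mul_assoc, coverNeg_sq, mul_one]
where
  opE_inj {i j : Fin n} (hne : j ≠ i) (h : opE j = opE i) : False := by
    have h1 := opE_anti hne
    rw [h, opE_sq] at h1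
    exact end_neg_one_ne_one (Units.ext h1.symm)

end CfsgLib.AltCover
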